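import Mathlib

/-!
# The dihedral lemma for two non-conjugate involutions

If `z₁, z₂` are involutions of a group whose product has finite order and which are not conjugate
under a power of `z₁ * z₂`, then `z₁ * z₂` has even order `2m` and `(z₁ * z₂) ^ m` is an involution
commuting with `z₁` and `z₂`.
-/

set_option autoImplicit false

namespace Cfsg.Agent.Lib.Helper45.Misc

variable {G : Type*} [Group G]

/-- `z₁` inverts `z₁ * z₂` -/
theorem dihedral_conj_pow (z₁ z₂ : G) (h₁ : z₁ * z₁ = 1) (h₂ : z₂ * z₂ = 1) (k : ℕ) :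
    z₁ * (z₁ * z₂) ^ k * z₁ = (z₂ * z₁) ^ k := by
  induction k with
  | zero => rw [pow_zero, pow_zero, mul_one, h₁]
  | succ k ih =>
    rw [pow_succ, pow_succ, ← ih]
    calc z₁ * ((z₁ * z₂) ^ k * (z₁ * z₂)) * z₁
        = z₁ * (z₁ * z₂) ^ k * (z₁ * z₁) * (z₁ * z₂) * z₁ := by rw [h₁]; group
      _ = z₁ * (z₁ * z₂) ^ k * z₁ * (z₁ * (z₁ * z₂) * z₁) := by group
      _ = z₁ * (z₁ * z₂) ^ k * z₁ * (z₂ * z₁) := by
          congr 1
          calc z₁ * (z₁ * z₂) * z₁ = (z₁ * z₁) * z₂ * z₁ := by group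
            _ = z₂ * z₁ := by rw [h₁, one_mul]

theorem dihedral_inv (z₁ z₂ : G) (h₁ : z₁ * z₁ = 1) (h₂ : z₂ * z₂ = 1) :
    (z₁ * z₂)⁻¹ = z₂ * z₁ := by
  rw [inv_eq_iff_mul_eq_one]
  calc z₁ * z₂ * (z₂ * z₁) = z₁ * (z₂ * z₂) * z₁ := by group
    _ = 1 := by rw [h₂, mul_one, h₁]

/-- **the dihedral lemma**: two involutions that are not conjugate under the powers of their
product (of finite order) commute with a common involution, a power of their product -/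
theorem exists_central_involution_of_not_conj (z₁ z₂ : G) (h₁ : z₁ * z₁ = 1) (h₂ : z₂ * z₂ = 1)
    (hfin : IsOfFinOrder (z₁ * z₂))
    (hnc : ∀ k : ℕ, (z₁ * z₂) ^ k * z₁ * ((z₁ * z₂) ^ k)⁻¹ ≠ z₂) :
    ∃ m : ℕ, orderOf (z₁ * z₂) = 2 * m ∧ (z₁ * z₂) ^ m ≠ 1 ∧
      (z₁ * z₂) ^ m * (z₁ * z₂) ^ m = 1 ∧
      z₁ * (z₁ * z₂) ^ m = (z₁ * z₂) ^ m * z₁ ∧ z₂ * (z₁ * z₂) ^ m = (z₁ * z₂) ^ m * z₂ := by
  set d := z₁ * z₂ with hd
  set n := orderOf d with hn
  have hn0 : 0 < n := hfin.orderOf_pos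
  have hdinv : d⁻¹ = z₂ * z₁ := dihedral_inv z₁ z₂ h₁ h₂
  -- `z₁ d^k z₁ = d^{-k}`
  have hconj : ∀ k : ℕ, z₁ * d ^ k * z₁ = (d ^ k)⁻¹ := by
    intro k
    rw [dihedral_conj_pow z₁ z₂ h₁ h₂ k, ← hdinv, inv_pow]
  have hz₁inv : z₁⁻¹ = z₁ := inv_eq_of_mul_eq_one_right h₁
  have hz₂inv : z₂⁻¹ = z₂ := inv_eq_of_mul_eq_one_right h₂
  rcases Nat.even_or_odd' n with ⟨m, hm | hm⟩
  · -- even order
    refine ⟨m, hm, ?_, ?_, ?_, ?_⟩
    · intro h1
      have := orderOf_dvd_of_pow_eq_one h1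
      have hm0 : 0 < m := by omega
      have := Nat.le_of_dvd hm0 this
      omega
    · rw [← pow_add, ← two_mul, ← hm]
      exact pow_orderOf_eq_one d
    · -- `z₁ d^m = d^{-m} z₁ = d^m z₁`
      have h3 : (d ^ m)⁻¹ = d ^ m := by
        rw [inv_eq_iff_mul_eq_one, ← pow_add, ← two_mul, ← hm]
        exact pow_orderOf_eq_one d
      have h4 := hconj m
      rw [h3] at h4
      calc z₁ * d ^ m = z₁ * d ^ m * (z₁ * z₁) := by rw [h₁, mul_one]
        _ = (z₁ * d ^ m * z₁) * z₁ := by group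
        _ = d ^ m * z₁ := by rw [h4]
    · have h3 : (d ^ m)⁻¹ = d ^ m := by
        rw [inv_eq_iff_mul_eq_one, ← pow_add, ← two_mul, ← hm]
        exact pow_orderOf_eq_one d
      have h4 := hconj m
      rw [h3] at h4
      -- `z₂ = z₁ d`
      have hz₂ : z₂ = z₁ * d := by
        rw [hd, ← mul_assoc, h₁, one_mul]
      have h5 : z₁ * d ^ m = d ^ m * z₁ := by
        calc z₁ * d ^ m = z₁ * d ^ m * (z₁ * z₁) := by rw [h₁, mul_one]
          _ = (z₁ * d ^ m * z₁) * z₁ := by group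
          _ = d ^ m * z₁ := by rw [h4]
      calc z₂ * d ^ m = z₁ * (d * d ^ m) := by rw [hz₂]; group
        _ = z₁ * (d ^ m * d) := by rw [← pow_succ', ← pow_succ]
        _ = (z₁ * d ^ m) * d := by group
        _ = d ^ m * z₁ * d := by rw [h5]
        _ = d ^ m * z₂ := by rw [hz₂]; group
  · -- odd order: conjugate
    exfalso
    apply hnc m
    -- `d^m z₁ d^{-m} = d^{2m} z₁ = d^{-1} z₁ = z₂`
    have h4 := hconj m
    have h5 : z₁ * (d ^ m)⁻¹ = d ^ m * z₁ := by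
      rw [← h4]
      calc z₁ * (z₁ * d ^ m * z₁) = (z₁ * z₁) * d ^ m * z₁ := by group
        _ = d ^ m * z₁ := by rw [h₁, one_mul]
    have h6 : d ^ (2 * m) = d⁻¹ := by
      rw [eq_inv_iff_mul_eq_one, ← pow_succ, ← hm]
      exact pow_orderOf_eq_one d
    calc d ^ m * z₁ * (d ^ m)⁻¹ = d ^ m * (z₁ * (d ^ m)⁻¹) := by group
      _ = d ^ m * (d ^ m * z₁) := by rw [h5]
      _ = d ^ (2 * m) * z₁ := by rw [two_mul, pow_add]; group
      _ = z₂ := by rw [h6, hdinv, mul_assoc, h₁, mul_one]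

end Cfsg.Agent.Lib.Helper45.Misc
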